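import Groth.Agent.Comod.Corep
import Groth.Prelude.Def_GLin
import Groth.Prelude.Def_Hoch

/-!
The linear action on a polynomial ring attached to a matrix corepresentation.
-/
set_option autoImplicit false
universe u
open TensorProduct MvPolynomial
noncomputable section

namespace Groth.Agent.PsRefl

variable {k : Type u} [Field k] {A : Type u} [CommRing A] [HopfAlgebra k A]
variable {n : Type u} [Fintype n]

variable (k) in
/-- The substitution attached to a matrix. -/
def linHom (M : Matrix n n A) : MvPolynomial n k →ₐ[k] MvPolynomial n k ⊗[k] A :=
  aeval fun j => ∑ i, X i ⊗ₜ[k] M i j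

theorem linHom_X (M : Matrix n n A) (j : n) : linHom k M (X j) = ∑ i, X i ⊗ₜ[k] M i j := aeval_X _ _

variable [DecidableEq n] {M : Matrix n n A}

/-- The coaction on polynomials attached to a matrix corepresentation. -/
@[reducible]
def linComod (hM : Comod.IsCorep (k := k) M) : HopfRep.Comod k A (MvPolynomial n k) where
  coact := (linHom k M).toLinearMap
  coassoc := by
    have h : ((Algebra.TensorProduct.assoc k k k (MvPolynomial n k) A A).toAlgHom.comp
        ((Algebra.TensorProduct.map (linHom k M) (AlgHom.id k A)).comp (linHom k M))) =
        (Algebra.TensorProduct.map (AlgHom.id k (MvPolynomial n k)) (Bialgebra.comulAlgHom k A)).comp (linHom k M) := by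
      refine MvPolynomial.algHom_ext fun j => ?_
      simp only [AlgHom.comp_apply, linHom_X, map_sum, Algebra.TensorProduct.map_tmul, AlgHom.id_apply,
        TensorProduct.sum_tmul, AlgEquiv.coe_algHom, Algebra.TensorProduct.assoc_tmul]
      rw [Finset.sum_comm]
      refine Finset.sum_congr rfl fun i _ => ?_
      rw [← TensorProduct.tmul_sum]
      congr 1
      have h := congrFun (congrFun hM.map_comul i) j
      simp only [Matrix.map_apply, Matrix.mul_apply, Algebra.TensorProduct.includeLeft_apply,
        Algebra.TensorProduct.includeRight_apply, Algebra.TensorProduct.tmul_mul_tmul, mul_one, one_mul] at h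
      exact h.symm
    refine LinearMap.ext fun f => ?_
    have h2 := AlgHom.congr_fun h f
    simp only [LinearMap.comp_apply, AlgHom.toLinearMap_apply, LinearEquiv.coe_coe]
    simp only [AlgHom.comp_apply] at h2
    have e1 : ∀ t, (Algebra.TensorProduct.map (linHom k M) (AlgHom.id k A)) t = (linHom k M).toLinearMap.rTensor A t :=
      fun t => by
        induction t using TensorProduct.induction_on with
        | zero => simp
        | tmul a b => simp
        | add a b ha hb => simp only [map_add, ha, hb]
    have e2 : ∀ t, (Algebra.TensorProduct.map (AlgHom.id k (MvPolynomial n k)) (Bialgebra.comulAlgHom k A)) t =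
        (CoalgebraStruct.comul (R := k) (A := A)).lTensor (MvPolynomial n k) t := fun t => by
      induction t using TensorProduct.induction_on with
      | zero => simp
      | tmul a b => simp
      | add a b ha hb => simp only [map_add, ha, hb]
    rw [e1, e2] at h2
    exact h2
  counit_comp := by
    have h : (Algebra.TensorProduct.map (AlgHom.id k (MvPolynomial n k)) (Bialgebra.counitAlgHom k A)).comp (linHom k M) =
        Algebra.TensorProduct.includeLeft := by
      refine MvPolynomial.algHom_ext fun j => ?_
      simp only [AlgHom.comp_apply, linHom_X, map_sum, Algebra.TensorProduct.map_tmul, AlgHom.id_apply,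
        Algebra.TensorProduct.includeLeft_apply]
      have hc : ∀ i, Bialgebra.counitAlgHom k A (M i j) = if i = j then 1 else 0 := fun i => by
        have := congrFun (congrFun hM.map_counit i) j
        simpa [Matrix.one_apply] using this
      rw [Finset.sum_eq_single j]
      · rw [hc, if_pos rfl]
      · intro i _ hi; rw [hc, if_neg hi, TensorProduct.tmul_zero]
      · simp
    refine LinearMap.ext fun f => ?_
    have h2 := AlgHom.congr_fun h f
    simp only [LinearMap.comp_apply, AlgHom.toLinearMap_apply, LinearMap.flip_apply, TensorProduct.mk_apply]
    simp only [AlgHom.comp_apply, Algebra.TensorProduct.includeLeft_apply] at h2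
    rw [← h2]
    generalize linHom k M f = t
    induction t using TensorProduct.induction_on with
    | zero => simp
    | tmul a b => simp
    | add a b ha hb => simp only [map_add, ha, hb]

theorem isCoactAlg_linComod (hM : Comod.IsCorep (k := k) M) :
    letI := linComod hM
    GLin.IsCoactAlg k A (MvPolynomial n k) :=
  letI := linComod hM
  { coact_one := map_one (linHom k M)
    coact_mul := map_mul (linHom k M) }

theorem isLinear_linComod (hM : Comod.IsCorep (k := k) M) :
    letI := linComod hM
    GLin.IsLinear k A n :=
  fun j => ⟨fun i => M i j, linHom_X M j⟩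

/-- An algebra map sending the variables to elements transforming by the matrix is equivariant. -/
theorem isComodHom_aeval (hM : Comod.IsCorep (k := k) M) {R : Type u} [CommRing R] [Algebra k R]
    [HopfRep.Comod k A R] [GLin.IsCoactAlg k A R] (e : n → R)
    (he : ∀ j, HopfRep.Comod.coact (k := k) (A := A) (e j) = ∑ i, e i ⊗ₜ[k] M i j) :
    letI := linComod hM
    Hoch.IsComodHom A (aeval e : MvPolynomial n k →ₐ[k] R).toLinearMap := by
  letI := linComod hM
  have h : (GLin.coactAlgHom k A R).comp (aeval e) =
      (Algebra.TensorProduct.map (aeval e) (AlgHom.id k A)).comp (linHom k M) := by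
    refine MvPolynomial.algHom_ext fun j => ?_
    simp only [AlgHom.comp_apply, linHom_X, map_sum, Algebra.TensorProduct.map_tmul, AlgHom.id_apply, aeval_X,
      GLin.coactAlgHom_apply, he]
  refine LinearMap.ext fun f => ?_
  have h2 := AlgHom.congr_fun h f
  simp only [AlgHom.comp_apply, GLin.coactAlgHom_apply] at h2
  simp only [LinearMap.comp_apply, AlgHom.toLinearMap_apply]
  rw [h2]
  show _ = (aeval e).toLinearMap.rTensor A (linHom k M f)
  generalize linHom k M f = t
  induction t using TensorProduct.induction_on with
  | zero => simp
  | tmul a b => simp
  | add a b ha hb => simp only [map_add, ha, hb]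

end Groth.Agent.PsRefl
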