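import Groth.Agent.Comod.Reynolds
import Groth.Agent.OrbitCot.Basic
import Groth.Prelude.Def_GLin
import Mathlib.RingTheory.MvPolynomial.Homogeneous

/-!
Linear coactions on a polynomial ring respect the grading.
-/
set_option autoImplicit false
set_option linter.unusedSectionVars false
universe u
open TensorProduct Coalgebra MvPolynomial
noncomputable section

namespace Groth.Agent.PsRefl

variable {k : Type u} [Field k] {A : Type u} [CommRing A] [HopfAlgebra k A]
variable {ι : Type u} [Fintype ι] [HopfRep.Comod k A (MvPolynomial ι k)]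
  [GLin.IsCoactAlg k A (MvPolynomial ι k)]

local notation "𝒫" => MvPolynomial ι k
local notation "ρ" => HopfRep.Comod.coact (k := k) (A := A) (V := MvPolynomial ι k)
local notation "H" => fun d : ℕ => homogeneousSubmodule ι k d
local notation "cmp" => fun d : ℕ => (homogeneousComponent d : 𝒫 →ₗ[k] 𝒫)

/-- Component of a product with a homogeneous factor. -/
theorem comp_mul_homog {g : 𝒫} {e : ℕ} (hg : g.IsHomogeneous e) (a : 𝒫) (d : ℕ) :
    homogeneousComponent d (a * g) = if e ≤ d then homogeneousComponent (d - e) a * g else 0 := by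
  classical
  conv_lhs => rw [← sum_homogeneousComponent a, Finset.sum_mul, map_sum]
  have h : ∀ j, homogeneousComponent d (homogeneousComponent j a * g) =
      if d = j + e then homogeneousComponent j a * g else 0 := fun j =>
    homogeneousComponent_of_mem ((homogeneousComponent_isHomogeneous j a).mul hg)
  simp only [h]
  by_cases hed : e ≤ d
  · rw [if_pos hed]
    have h' : ∀ j, (d = j + e) ↔ j = d - e := fun j => by omega
    simp only [h', Finset.sum_ite_eq', Finset.mem_range]
    by_cases hj : d - e < a.totalDegree + 1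
    · rw [if_pos hj]
    · rw [if_neg hj, homogeneousComponent_eq_zero (d - e) a (by omega), zero_mul]
  · rw [if_neg hed]
    exact Finset.sum_eq_zero fun j _ => if_neg (by omega)

variable (hlin : GLin.IsLinear k A ι)

include hlin in
theorem coact_monomial_mem (s : ι →₀ ℕ) (c : k) :
    ρ (monomial s c) ∈ LinearMap.range ((H s.degree).subtype.rTensor A) := by
  classical
  have hmul : ∀ (d e : ℕ) (x y : 𝒫 ⊗[k] A), x ∈ LinearMap.range ((H d).subtype.rTensor A) →
      y ∈ LinearMap.range ((H e).subtype.rTensor A) → x * y ∈ LinearMap.range ((H (d + e)).subtype.rTensor A) := by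
    rintro d e _ _ ⟨s, rfl⟩ ⟨t, rfl⟩
    induction s using TensorProduct.induction_on with
    | zero => simp
    | add p q hp hq => rw [map_add, add_mul]; exact add_mem hp hq
    | tmul p a =>
      induction t using TensorProduct.induction_on with
      | zero => simp
      | add u v hu hv => rw [map_add, mul_add]; exact add_mem hu hv
      | tmul q b => exact ⟨⟨(p : 𝒫) * q, IsHomogeneous.mul p.2 q.2⟩ ⊗ₜ (a * b), by simp⟩
  have h0 : ∀ c : k, ρ (C c) ∈ LinearMap.range ((H 0).subtype.rTensor A) := fun c =>
    ⟨⟨C c, isHomogeneous_C _ _⟩ ⊗ₜ 1, by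
      show (C c : 𝒫) ⊗ₜ[k] (1 : A) = ρ (C c)
      rw [show (C c : 𝒫) = algebraMap k 𝒫 c from rfl, ← GLin.coactAlgHom_apply, AlgHom.commutes]
      rfl⟩
  have hX : ∀ i, ρ (X i) ∈ LinearMap.range ((H 1).subtype.rTensor A) := fun i => by
    obtain ⟨m, hm⟩ := hlin i
    rw [hm]
    exact Submodule.sum_mem _ fun j _ => ⟨⟨X j, isHomogeneous_X _ _⟩ ⊗ₜ m j, rfl⟩
  have hone : ∀ (s : ι →₀ ℕ), ρ (monomial s (1 : k)) ∈ LinearMap.range ((H s.degree).subtype.rTensor A) := by
    intro s
    induction s using Finsupp.induction with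
    | zero =>
      rw [show Finsupp.degree (0 : ι →₀ ℕ) = 0 from map_zero _, show monomial (0 : ι →₀ ℕ) (1 : k) = C 1 from rfl]
      exact h0 1
    | single_add i n f hif hn ih =>
      rw [show monomial (Finsupp.single i n + f) (1 : k) = X i ^ n * monomial f 1 by
        rw [X_pow_eq_monomial, monomial_mul, one_mul], GLin.IsCoactAlg.coact_mul, map_add, Finsupp.degree_single]
      refine hmul _ _ _ _ ?_ ih
      clear ih hn
      induction n with
      | zero =>
        rw [pow_zero, show (1 : 𝒫) = C 1 from C_1.symm]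
        exact h0 1
      | succ n ihn =>
        rw [pow_succ, GLin.IsCoactAlg.coact_mul]
        exact hmul _ _ _ _ ihn (hX i)
  rw [show monomial s c = C c * monomial s 1 by rw [C_mul_monomial, mul_one], GLin.IsCoactAlg.coact_mul]
  have h := hmul 0 _ _ _ (h0 c) (hone s)
  rwa [zero_add] at h

include hlin in
theorem coact_mem_of_homog {d : ℕ} {h : 𝒫} (hh : h ∈ H d) :
    ρ h ∈ LinearMap.range ((H d).subtype.rTensor A) := by
  classical
  rw [h.as_sum, map_sum]
  refine Submodule.sum_mem _ fun s hs => ?_
  have : s.degree = d := by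
    have := hh (mem_support_iff.1 hs)
    rw [Finsupp.degree_eq_weight_one]
    exact this
  exact this ▸ coact_monomial_mem hlin s _

include hlin in
theorem comp_coact (d : ℕ) (f : 𝒫) : (cmp d).rTensor A (ρ f) = ρ (cmp d f) := by
  classical
  conv_lhs => rw [← sum_homogeneousComponent f]
  conv_rhs => rw [← sum_homogeneousComponent f]
  simp only [map_sum]
  refine Finset.sum_congr rfl fun j _ => ?_
  rw [homogeneousComponent_of_mem (homogeneousComponent_mem j f)]
  obtain ⟨t, ht⟩ := coact_mem_of_homog hlin (homogeneousComponent_mem j f)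
  rw [← ht]
  have : (cmp d).rTensor A ((H j).subtype.rTensor A t) = if d = j then (H j).subtype.rTensor A t else 0 := by
    clear ht
    induction t using TensorProduct.induction_on with
    | zero => simp
    | add a b ha hb => simp only [map_add, ha, hb]; split <;> simp
    | tmul a b =>
      rw [LinearMap.rTensor_tmul, LinearMap.rTensor_tmul, Submodule.coe_subtype,
        homogeneousComponent_of_mem a.2]
      split <;> simp
  rw [this]
  split
  · exact ht
  · rw [map_zero]

include hlin in
theorem comp_cR (φ : A →ₗ[k] k) (d : ℕ) (f : 𝒫) :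
    homogeneousComponent d (Comod.cR φ (ρ f)) = Comod.cR φ (ρ (homogeneousComponent d f)) := by
  rw [← comp_coact hlin d f]
  exact (Comod.cR_rTensor (cmp d) φ (ρ f)).symm

include hlin in
theorem comp_mem_invariants (d : ℕ) {f : 𝒫} (hf : f ∈ GLin.invariants k A 𝒫) :
    homogeneousComponent d f ∈ GLin.invariants k A 𝒫 := by
  rw [GLin.mem_invariants_iff, ← comp_coact hlin d f, (GLin.mem_invariants_iff k A 𝒫 f).1 hf,
    LinearMap.rTensor_tmul]

variable (k A ι) in
/-- Homogeneous invariants of positive degree. -/
def posInv : Set 𝒫 := {f | f ∈ GLin.invariants k A 𝒫 ∧ ∃ d, 0 < d ∧ f.IsHomogeneous d}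

variable (k A ι) in
/-- The ideal they generate. -/
def hilb : Ideal 𝒫 := Ideal.span (posInv k A ι)

theorem stable_hilb : OrbitCot.Stable k A (hilb k A ι) := by
  have h := OrbitCot.stable_span (k := k) (A := A) (fun f : posInv k A ι => (f : 𝒫)) fun f => f.2.1
  rwa [Subtype.range_coe] at h

theorem constantCoeff_hilb {f : 𝒫} (hf : f ∈ hilb k A ι) : constantCoeff f = 0 := by
  refine RingHom.mem_ker.1 (Ideal.span_le.2 ?_ hf)
  rintro g ⟨-, d, hd, hg⟩
  exact hg.coeff_eq_zero (by simpa using hd.ne)

end Groth.Agent.PsRefl
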