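import Groth.Agent.PsRefl.Split
import Groth.Agent.PsRefl.Graded

/-!
Chevalley's lemma for groups generated by pseudo-reflections.
-/
set_option autoImplicit false
set_option linter.style.haveILetI false
set_option linter.unusedSectionVars false
universe u
open TensorProduct Coalgebra MvPolynomial
noncomputable section

namespace Groth.Agent.PsRefl

variable {k : Type u} [Field k] {A : Type u} [CommRing A] [HopfAlgebra k A]
variable {ι : Type u} [Fintype ι] [HopfRep.Comod k A (MvPolynomial ι k)]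
  [GLin.IsCoactAlg k A (MvPolynomial ι k)]

local notation "𝒫" => MvPolynomial ι k
local notation "ρ" => HopfRep.Comod.coact (k := k) (A := A) (V := MvPolynomial ι k)

theorem cR_mul_one {D : Type*} [CommRing D] [Algebra k D] [Coalgebra k D] (l : D →ₗ[k] k) (t : 𝒫 ⊗[k] D)
    (y : 𝒫) : Comod.cR l (t * (y ⊗ₜ[k] (1 : D))) = Comod.cR l t * y := by
  induction t using TensorProduct.induction_on with
  | zero => simp
  | tmul a b => simp [Algebra.TensorProduct.tmul_mul_tmul]
  | add a b ha hb => simp [add_mul, ha, hb]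

/-- The difference operator of a functional. -/
def diff (φ : A →ₗ[k] k) : 𝒫 →ₗ[k] 𝒫 := Comod.cR φ ∘ₗ ρ - φ 1 • LinearMap.id

theorem diff_apply (φ : A →ₗ[k] k) (f : 𝒫) : diff φ f = Comod.cR φ (ρ f) - φ 1 • f := rfl

theorem diff_invariant_mul (φ : A →ₗ[k] k) {g : 𝒫} (hg : g ∈ GLin.invariants k A 𝒫) (f : 𝒫) :
    diff φ (g * f) = g * diff φ f := by
  rw [diff_apply, diff_apply, GLin.IsCoactAlg.coact_mul, (GLin.mem_invariants_iff k A 𝒫 g).1 hg, mul_comm,
    OrbitCot.cR_mul_left, mul_sub, mul_smul_comm, mul_comm g, mul_comm (Comod.cR φ (ρ f)) g]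

variable (hlin : GLin.IsLinear k A ι)

include hlin in
/-- Along a pseudo-reflection every difference is divisible by one linear form. -/
theorem exists_root (hsub : ∀ (I : Ideal A) [I.IsHopfIdeal k], HopfRep.IsLinearlyReductive k (A ⧸ I))
    (I : Ideal A) (hI : GLin.IsPseudoRefl k A ι I) :
    ∃ L : 𝒫, L.IsHomogeneous 1 ∧ L ≠ 0 ∧
      ∀ (ψ : A ⧸ I →ₗ[k] k) (f : 𝒫), ∃ t, diff (ψ ∘ₗ (Ideal.Quotient.mkₐ k I).toLinearMap) f = L * t := by
  classical
  have := hI.1
  obtain ⟨r⟩ := Comod.nonempty_integral (hsub I)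
  let π := (Ideal.Quotient.mkₐ k I).toLinearMap
  let c : HopfRep.Comod k (A ⧸ I) 𝒫 :=
    Comod.pushforward (Bialgebra.Quotient.mkBialgHom (R := k) I).toCoalgHom inferInstance
  have hc : ∀ f : 𝒫, HopfRep.Comod.coact (k := k) (A := A ⧸ I) f = π.lTensor 𝒫 (ρ f) := fun f => rfl
  let W : Submodule k 𝒫 := homogeneousSubmodule ι k 1
  have : Module.Finite k W := by
    rw [show W = Submodule.span k (Set.range (X : ι → 𝒫)) from homogeneousSubmodule_one_eq_span_X ..]
    exact Module.Finite.span_of_finite k (Set.finite_range _)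
  have hW : ∀ w ∈ W, HopfRep.Comod.coact (k := k) (A := A ⧸ I) w ∈ LinearMap.range (W.subtype.rTensor (A ⧸ I)) := by
    intro w hw
    obtain ⟨t, ht⟩ := coact_mem_of_homog hlin hw
    refine ⟨π.lTensor W t, ?_⟩
    rw [hc, ← ht]
    show W.subtype.rTensor (A ⧸ I) (π.lTensor W t) = π.lTensor 𝒫 (W.subtype.rTensor A t)
    clear ht
    induction t using TensorProduct.induction_on with
    | zero => simp
    | tmul a b => simp
    | add a b ha hb => simp only [map_add, ha, hb]
  obtain ⟨L, hLW, hL0, ⟨cL, hcL⟩, hdec⟩ := exists_eigen r W (W ⊓ GLin.quotInvariants k A 𝒫 I) hW rfl hI.2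
  refine ⟨L, hLW, hL0, fun ψ f => ?_⟩
  let α : 𝒫 →ₐ[k] 𝒫 ⊗[k] (A ⧸ I) :=
    (Algebra.TensorProduct.map (AlgHom.id k 𝒫) (Ideal.Quotient.mkₐ k I)).comp (GLin.coactAlgHom k A 𝒫)
  let K : Ideal (𝒫 ⊗[k] (A ⧸ I)) := Ideal.span {L ⊗ₜ[k] (1 : A ⧸ I)}
  have hα : ∀ g, α g = HopfRep.Comod.coact (k := k) (A := A ⧸ I) g := fun g => by
    rw [hc]
    show Algebra.TensorProduct.map _ _ (ρ g) = _
    generalize ρ g = t
    induction t using TensorProduct.induction_on with
    | zero => simp
    | tmul a b => simp [π]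
    | add a b ha hb => simp only [map_add, ha, hb]
  have heq : (Ideal.Quotient.mkₐ k K).comp α =
      (Ideal.Quotient.mkₐ k K).comp Algebra.TensorProduct.includeLeft := by
    refine MvPolynomial.algHom_ext fun i => ?_
    refine (Ideal.Quotient.eq (I := K)).2 ?_
    show α (X i) - (X i : 𝒫) ⊗ₜ[k] (1 : A ⧸ I) ∈ K
    obtain ⟨g, a, hg, hXi⟩ := hdec (X i) (isHomogeneous_X _ _)
    rw [hα, hXi, map_add, map_smul, hcL, show HopfRep.Comod.coact (k := k) (A := A ⧸ I) g = g ⊗ₜ[k] 1 from hg,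
      TensorProduct.add_tmul, add_sub_add_left_eq_sub]
    refine Ideal.mem_span_singleton'.2 ⟨(a • (1 : 𝒫)) ⊗ₜ (cL - 1), ?_⟩
    simp [TensorProduct.tmul_sub, TensorProduct.smul_tmul', sub_mul]
  have hmem : α f - f ⊗ₜ[k] (1 : A ⧸ I) ∈ K := (Ideal.Quotient.eq (I := K)).1 (AlgHom.congr_fun heq f)
  obtain ⟨s, hs⟩ := Ideal.mem_span_singleton'.1 hmem
  refine ⟨Comod.cR ψ s, ?_⟩
  have h1 := congrArg (Comod.cR ψ) hs
  rw [cR_mul_one, map_sub, Comod.cR_tmul, hα, hc] at h1
  rw [diff_apply, mul_comm, h1]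
  congr 1
  generalize ρ f = t
  induction t using TensorProduct.induction_on with
  | zero => simp
  | tmul a b => simp [π]
  | add a b ha hb => simp only [map_add, ha, hb]

variable (hG : HopfRep.IsLinearlyReductive k A)
variable (hsub : ∀ (I : Ideal A) [I.IsHopfIdeal k], HopfRep.IsLinearlyReductive k (A ⧸ I))
variable (hgen : GLin.IsGenByPseudoRefl k A ι)

include hlin hG hgen in
/-- An element whose differences lie in the invariant ideal lies in it. -/
theorem mem_hilb_of_diff {d : ℕ} (hd : 0 < d) {h : 𝒫} (hh : h.IsHomogeneous d)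
    (hdiff : ∀ I, GLin.IsPseudoRefl k A ι I → ∀ ψ : A ⧸ I →ₗ[k] k,
      diff (ψ ∘ₗ (Ideal.Quotient.mkₐ k I).toLinearMap) h ∈ hilb k A ι) : h ∈ hilb k A ι := by
  classical
  obtain ⟨r⟩ := Comod.nonempty_integral hG
  let J := hilb k A ι
  letI : HopfRep.Comod k A (𝒫 ⧸ J) := OrbitCot.quotComod k A (stable_hilb (k := k) (A := A) (ι := ι))
  let q : 𝒫 →ₗ[k] 𝒫 ⧸ J := (Ideal.Quotient.mkₐ k J).toLinearMap
  have hq : ∀ f : 𝒫, HopfRep.Comod.coact (k := k) (A := A) (q f) = q.rTensor A (ρ f) :=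
    fun f => OrbitCot.quotCoact_mk stable_hilb f
  have hfix : fixIdeal k A (q h) ≤ ⊥ := by
    rw [← show GLin.genIdeal k A ι = ⊥ from hgen]
    refine le_sSup ⟨isHopfIdeal_fixIdeal (q h), fun I hI => Ideal.span_le.2 ?_⟩
    rintro _ ⟨φ, rfl⟩
    refine Ideal.Quotient.eq_zero_iff_mem.1 ((Module.forall_dual_apply_eq_zero_iff k _).1 fun ψ => ?_)
    have h0 := hdiff I hI ψ
    rw [← Ideal.Quotient.eq_zero_iff_mem, diff_apply] at h0
    have h1 : φ (q (Comod.cR (ψ ∘ₗ (Ideal.Quotient.mkₐ k I).toLinearMap) (ρ h))) -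
        ψ 1 * φ (q h) = 0 := by
      have := congrArg φ h0
      rw [map_zero] at this
      rw [← this]
      show _ = φ (Ideal.Quotient.mk J _)
      rw [map_sub, map_sub]
      congr 1
      show _ = φ (q (_ • h))
      rw [map_smul, map_smul, smul_eq_mul, LinearMap.comp_apply]
      simp [q]
    show ψ (Ideal.Quotient.mk I (Comod.cL φ (HopfRep.Comod.coact (k := k) (A := A) (q h)) -
      algebraMap k A (φ (q h)))) = 0
    rw [map_sub, map_sub, hq, Algebra.algebraMap_eq_smul_one]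
    rw [show Ideal.Quotient.mk I (φ (q h) • (1 : A)) = φ (q h) • (1 : A ⧸ I) from
      map_smul (Ideal.Quotient.mkₐ k I) _ _, map_smul, smul_eq_mul, mul_comm]
    refine Eq.trans ?_ h1
    congr 1
    generalize ρ h = t
    induction t using TensorProduct.induction_on with
    | zero => simp
    | tmul a b =>
      simp
      rw [show Ideal.Quotient.mk I (φ (q a) • b) = φ (q a) • Ideal.Quotient.mk I b from
        map_smul (Ideal.Quotient.mkₐ k I) _ _, map_smul, smul_eq_mul, mul_comm]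
    | add a b ha hb => simp only [map_add, ha, hb]
  have hcoact : HopfRep.Comod.coact (k := k) (A := A) (q h) = q h ⊗ₜ[k] (1 : A) := by
    refine Comod.tensor_eq_of_cL fun φ => ?_
    rw [Comod.cL_tmul, ← Algebra.algebraMap_eq_smul_one, ← sub_eq_zero]
    exact (Submodule.mem_bot A).1 (hfix (Ideal.subset_span ⟨φ, rfl⟩))
  have hqR : q (Comod.reynolds 𝒫 r h) = q h := by
    rw [Comod.reynolds_apply, ← Comod.cR_rTensor, ← hq, hcoact, Comod.cR_tmul, r.one, one_smul]
  have hR : Comod.reynolds 𝒫 r h ∈ J := by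
    refine Ideal.subset_span ⟨Comod.reynolds_mem r h, d, hd, ?_⟩
    rw [Comod.reynolds_apply, ← homogeneousComponent_eq_self hh, ← comp_cR hlin]
    exact homogeneousComponent_isHomogeneous _ _
  have := Ideal.Quotient.eq.1 (show Ideal.Quotient.mk J (Comod.reynolds 𝒫 r h) = Ideal.Quotient.mk J h from hqR)
  simpa using sub_mem hR this

include hlin hG hsub hgen in
/-- Chevalley's lemma. -/
theorem chevalley (d : ℕ) : ∀ {σ : Type} [Fintype σ] (g0 : 𝒫) (g : σ → 𝒫),
    g0 ∈ GLin.invariants k A 𝒫 → (∀ i, g i ∈ GLin.invariants k A 𝒫) →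
    (¬ ∃ c : σ → 𝒫, (∀ i, c i ∈ GLin.invariants k A 𝒫) ∧ g0 = ∑ i, c i * g i) →
    ∀ (h0 : 𝒫) (h : σ → 𝒫), h0.IsHomogeneous d → g0 * h0 + ∑ i, g i * h i = 0 → h0 ∈ hilb k A ι := by
  induction d with
  | zero =>
    intro σ _ g0 g hg0 hg hnot h0 h hh0 hrel
    obtain ⟨r⟩ := Comod.nonempty_integral hG
    rw [← homogeneousComponent_eq_self hh0, homogeneousComponent_zero]
    by_cases hc : coeff 0 h0 = 0
    · simp [hc]
    refine absurd ⟨fun i => C (-(coeff 0 h0)⁻¹) * Comod.reynolds 𝒫 r (h i), fun i => ?_, ?_⟩ hnot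
    · exact mul_mem (Subalgebra.algebraMap_mem _ _) (Comod.reynolds_mem r _)
    · have h1 := congrArg (Comod.reynolds 𝒫 r) hrel
      have hmul : ∀ a b : 𝒫, ρ (a * b) = ρ a * ρ b := GLin.IsCoactAlg.coact_mul
      rw [map_add, map_sum, map_zero, Comod.reynolds_mul r g0 h0 hmul hg0] at h1
      simp only [Comod.reynolds_mul r _ _ hmul (hg _)] at h1
      rw [show Comod.reynolds 𝒫 r h0 = C (coeff 0 h0) from by
        conv_lhs => rw [← homogeneousComponent_eq_self hh0, homogeneousComponent_zero]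
        exact Comod.reynolds_of_mem r (Subalgebra.algebraMap_mem (GLin.invariants k A 𝒫) _),
        add_eq_zero_iff_eq_neg] at h1
      have h2 : C (coeff 0 h0) * C (coeff 0 h0)⁻¹ = (1 : 𝒫) := by
        rw [← map_mul, mul_inv_cancel₀ hc, map_one]
      calc g0 = g0 * C (coeff 0 h0) * C (coeff 0 h0)⁻¹ := by rw [mul_assoc, h2, mul_one]
        _ = _ := by
          rw [h1, neg_mul, Finset.sum_mul, ← Finset.sum_neg_distrib]
          refine Finset.sum_congr rfl fun i _ => ?_
          rw [map_neg]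
          ring
  | succ d ih =>
    intro σ _ g0 g hg0 hg hnot h0 h hh0 hrel
    refine mem_hilb_of_diff hlin hG hgen (Nat.succ_pos d) hh0 fun I hI ψ => ?_
    obtain ⟨L, hL, hL0, hroot⟩ := exists_root hlin hsub I hI
    set φ := ψ ∘ₗ (Ideal.Quotient.mkₐ k I).toLinearMap
    obtain ⟨t0, ht0⟩ := hroot ψ h0
    choose t ht using fun i => hroot ψ (h i)
    have hhom : (diff φ h0).IsHomogeneous (d + 1) := by
      rw [diff_apply]
      refine Submodule.sub_mem (homogeneousSubmodule ι k (d + 1)) ?_ (Submodule.smul_mem _ _ hh0)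
      show (Comod.cR φ (ρ h0)).IsHomogeneous (d + 1)
      rw [← homogeneousComponent_eq_self hh0, ← comp_cR hlin]
      exact homogeneousComponent_isHomogeneous _ _
    have ht0h : t0.IsHomogeneous d := by
      have h1 := homogeneousComponent_eq_self hhom
      rw [ht0, mul_comm L, comp_mul_homog hL, if_pos (by omega), Nat.add_sub_cancel] at h1
      have h2 : homogeneousComponent d t0 = t0 := mul_right_cancel₀ hL0 h1
      rw [← h2]
      exact homogeneousComponent_isHomogeneous _ _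
    have hrel' : g0 * t0 + ∑ i, g i * t i = 0 := by
      have h1 := congrArg (diff φ) hrel
      rw [map_zero, map_add, map_sum, diff_invariant_mul φ hg0, ht0] at h1
      simp only [diff_invariant_mul φ (hg _), ht] at h1
      refine mul_left_cancel₀ hL0 ?_
      rw [mul_zero, mul_add, Finset.mul_sum, ← h1]
      simp only [mul_left_comm L, ← show ∀ i, diff φ (h i) = L * t i from ht]
    rw [ht0]
    exact Ideal.mul_mem_left _ _ (ih g0 g hg0 hg hnot t0 t ht0h hrel')

end Groth.Agent.PsRefl
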