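import Groth.Agent.PsRefl.Chevalley
import Groth.Agent.InvFin.Finite
import Mathlib.LinearAlgebra.Dimension.Finite

/-!
Polynomials are free over the invariants of a group generated by pseudo-reflections.
-/
set_option autoImplicit false
set_option linter.unusedSectionVars false
universe u
open TensorProduct Coalgebra MvPolynomial
noncomputable section

namespace Groth.Agent.PsRefl

variable {k : Type u} [Field k] {A : Type u} [CommRing A] [HopfAlgebra k A]
variable {ι : Type u} [Fintype ι] [HopfRep.Comod k A (MvPolynomial ι k)]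
  [GLin.IsCoactAlg k A (MvPolynomial ι k)]

local notation "𝒫" => MvPolynomial ι k
local notation "ℬ" => GLin.invariants k A (MvPolynomial ι k)

variable (k A ι) in
/-- the coinvariant algebra -/
abbrev qmap : 𝒫 →ₗ[k] 𝒫 ⧸ hilb k A ι := (Ideal.Quotient.mkₐ k (hilb k A ι)).toLinearMap

variable (hlin : GLin.IsLinear k A ι)

theorem qmap_homog {c : 𝒫} (hc : c ∈ ℬ) {j : ℕ} (hj : c.IsHomogeneous j) :
    c - C (constantCoeff c) ∈ hilb k A ι := by
  rcases Nat.eq_zero_or_pos j with rfl | hpos
  · have h := homogeneousComponent_eq_self hj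
    rw [homogeneousComponent_zero] at h
    rw [show C (constantCoeff c) = c from h, sub_self]
    exact zero_mem _
  · have hmem : c ∈ hilb k A ι := Ideal.subset_span ⟨hc, j, hpos, hj⟩
    rw [constantCoeff_hilb hmem, map_zero, sub_zero]
    exact hmem

include hlin in
theorem invariant_sub_mem {b : 𝒫} (hb : b ∈ ℬ) : b - C (constantCoeff b) ∈ hilb k A ι := by
  have h1 : b - C (constantCoeff b) =
      ∑ i ∈ Finset.range (b.totalDegree + 1),
        (homogeneousComponent i b - C (constantCoeff (homogeneousComponent i b))) := by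
    rw [Finset.sum_sub_distrib, sum_homogeneousComponent, ← map_sum, ← map_sum, sum_homogeneousComponent]
  rw [h1]
  exact Submodule.sum_mem _ fun i _ =>
    qmap_homog (comp_mem_invariants hlin i hb) (homogeneousComponent_isHomogeneous i b)

variable (hG : HopfRep.IsLinearlyReductive k A)
variable (hsub : ∀ (I : Ideal A) [I.IsHopfIdeal k], HopfRep.IsLinearlyReductive k (A ⧸ I))
variable (hgen : GLin.IsGenByPseudoRefl k A ι)

include hlin hG hsub hgen in
theorem indep_homog (D : ℕ) : ∀ (n : ℕ) {σ : Type} [Fintype σ], Fintype.card σ = n →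
    ∀ (g h : σ → 𝒫) (dg de : σ → ℕ), (∀ i, g i ∈ ℬ) → (∀ i, (g i).IsHomogeneous (dg i)) →
    (∀ i, (h i).IsHomogeneous (de i)) → (∀ i, dg i + de i = D) →
    LinearIndependent k (fun i => qmap k A ι (h i)) → ∑ i, g i * h i = 0 → ∀ i, g i = 0 := by
  classical
  intro n
  induction n with
  | zero =>
    intro σ _ hcard g h dg de _ _ _ _ _ _ i
    exact (Fintype.card_eq_zero_iff.1 hcard).elim i
  | succ n ih =>
    intro σ _ hcard g h dg de hginv hgh hhh hD hli hrel
    obtain ⟨i0⟩ : Nonempty σ := Fintype.card_pos_iff.1 (by omega)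
    let τ := {i : σ // i ≠ i0}
    have hsum : ∀ F : σ → 𝒫, ∑ i, F i = F i0 + ∑ i : τ, F i := fun F => by
      rw [← Finset.add_sum_erase _ _ (Finset.mem_univ i0), Finset.sum_subtype (p := fun i => i ≠ i0)]
      intro i
      simp
    have hin : ∃ c : τ → 𝒫, (∀ i, c i ∈ ℬ) ∧ g i0 = ∑ i, c i * g i := by
      by_contra hnot
      have := chevalley hlin hG hsub hgen (de i0) (g i0) (fun i : τ => g i) (hginv i0) (fun i => hginv i) hnot
        (h i0) (fun i : τ => h i) (hhh i0) (by rw [← hrel, hsum])
      exact hli.ne_zero i0 (Ideal.Quotient.eq_zero_iff_mem.2 this)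
    obtain ⟨c, hc, hgc⟩ := hin
    let c' : τ → 𝒫 := fun i => if dg i ≤ dg i0 then homogeneousComponent (dg i0 - dg i) (c i) else 0
    have hc'inv : ∀ i, c' i ∈ ℬ := fun i => by
      simp only [c']
      split
      · exact comp_mem_invariants hlin _ (hc i)
      · exact zero_mem _
    have hgc' : g i0 = ∑ i : τ, c' i * g i := by
      conv_lhs => rw [← homogeneousComponent_eq_self (hgh i0), hgc, map_sum]
      refine Finset.sum_congr rfl fun i _ => ?_
      rw [comp_mul_homog (hgh i)]
      simp only [c']
      split <;> simp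
    let h' : τ → 𝒫 := fun i => h i + c' i * h i0
    have hh' : ∀ i, (h' i).IsHomogeneous (de i) := fun i => by
      refine (hhh i).add ?_
      simp only [c']
      split
      · have h1 := (homogeneousComponent_isHomogeneous (dg i0 - dg (i : σ)) (c i)).mul (hhh i0)
        rwa [show dg i0 - dg (i : σ) + de i0 = de (i : σ) by have := hD i0; have := hD i; omega] at h1
      · rw [zero_mul]
        exact isHomogeneous_zero _ _ _
    have hq : ∀ i, qmap k A ι (h' i) = qmap k A ι (h i) + constantCoeff (c' i) • qmap k A ι (h i0) := fun i => by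
      have h1 : c' i * h i0 - C (constantCoeff (c' i)) * h i0 ∈ hilb k A ι := by
        rw [← sub_mul]
        exact Ideal.mul_mem_right _ _ (invariant_sub_mem hlin (hc'inv i))
      show qmap k A ι (h i + c' i * h i0) = _
      rw [map_add, ← map_smul, MvPolynomial.smul_eq_C_mul]
      congr 1
      exact Ideal.Quotient.eq.2 h1
    have hli' : LinearIndependent k fun i => qmap k A ι (h' i) := by
      rw [Fintype.linearIndependent_iff]
      intro a ha i
      let b : σ → k := fun j => if hj : j ≠ i0 then a ⟨j, hj⟩ else ∑ i : τ, a i * constantCoeff (c' i)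
      have hb0 : b i0 = ∑ i : τ, a i * constantCoeff (c' i) := dif_neg (fun h => h rfl)
      have hbi : ∀ i : τ, b i = a i := fun i => dif_pos i.2
      have hsumq : ∑ j, b j • qmap k A ι (h j) = 0 := by
        rw [← Finset.add_sum_erase _ _ (Finset.mem_univ i0), Finset.sum_subtype (p := fun j => j ≠ i0) _ (by simp),
          hb0, Finset.sum_smul, ← Finset.sum_add_distrib, ← ha]
        refine Finset.sum_congr rfl fun j _ => ?_
        rw [hq, hbi, smul_add, smul_smul, add_comm]
      rw [← hbi i]
      exact Fintype.linearIndependent_iff.1 hli b hsumq i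
    have hrel' : ∑ i : τ, g i * h' i = 0 := by
      rw [← hrel, hsum, hgc', Finset.sum_mul, ← Finset.sum_add_distrib]
      refine Finset.sum_congr rfl fun i _ => ?_
      simp only [h']
      ring
    have hcard' : Fintype.card τ = n := by
      simp only [τ, Fintype.card_subtype_compl, Fintype.card_subtype_eq]
      omega
    have hzero := ih (σ := τ) hcard' (fun i => g i) h' (fun i => dg i) (fun i => de i) (fun i => hginv i)
      (fun i => hgh i) hh' (fun i => hD i) hli' hrel'
    intro i
    by_cases hi : i = i0
    · rw [hi, hgc']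
      exact Finset.sum_eq_zero fun j _ => by rw [show g j = 0 from hzero j, mul_zero]
    · exact hzero ⟨i, hi⟩

include hlin hG hsub hgen in
/-- Polynomials are free over the invariants. -/
theorem free [Module.Finite k A] : Module.Free ℬ 𝒫 := by
  classical
  have hfin : Module.Finite ℬ 𝒫 := InvFin.finite_invariants
  obtain ⟨S, hS⟩ := hfin.fg_top
  let Q := 𝒫 ⧸ hilb k A ι
  have hQfin : Module.Finite k Q := by
    refine ⟨⟨S.image (qmap k A ι), eq_top_iff.2 fun z hz => ?_⟩⟩
    clear hz
    obtain ⟨f, rfl⟩ := Ideal.Quotient.mk_surjective z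
    have hf : f ∈ Submodule.span ℬ (S : Set 𝒫) := hS ▸ Submodule.mem_top
    show qmap k A ι f ∈ _
    induction hf using Submodule.span_induction with
    | mem f hf => exact Submodule.subset_span (Finset.mem_coe.2 (Finset.mem_image_of_mem _ hf))
    | zero => rw [map_zero]; exact zero_mem _
    | add a b _ _ ha hb => rw [map_add]; exact add_mem ha hb
    | smul c a _ ha =>
      have h1 : qmap k A ι ((c : 𝒫) * a) = constantCoeff (c : 𝒫) • qmap k A ι a := by
        rw [← map_smul, MvPolynomial.smul_eq_C_mul]
        refine Ideal.Quotient.eq.2 ?_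
        rw [← sub_mul]
        exact Ideal.mul_mem_right _ _ (invariant_sub_mem hlin c.2)
      show qmap k A ι ((c : 𝒫) * a) ∈ _
      rw [h1]
      exact Submodule.smul_mem _ _ ha
  let T : Set Q := qmap k A ι '' {h | ∃ d, h.IsHomogeneous d}
  obtain ⟨b, hbT, hbspan, hbli⟩ := exists_linearIndependent k T
  have hT : Submodule.span k T = ⊤ := eq_top_iff.2 fun z _ => by
    obtain ⟨f, rfl⟩ := Ideal.Quotient.mk_surjective z
    show qmap k A ι f ∈ _
    rw [← sum_homogeneousComponent f, map_sum]
    exact Submodule.sum_mem _ fun i _ => Submodule.subset_span ⟨_, ⟨i, homogeneousComponent_isHomogeneous i f⟩, rfl⟩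
  rw [hT] at hbspan
  have : Fintype b := (hbli.setFinite).fintype
  let N := Fintype.card b
  let en : Fin N ≃ b := (Fintype.equivFin b).symm
  choose e he hqe using fun i : Fin N => hbT (en i).2
  choose de hde using he
  have hqli : LinearIndependent k fun i => qmap k A ι (e i) := by
    rw [show (fun i => qmap k A ι (e i)) = (Subtype.val : b → Q) ∘ en from funext hqe]
    exact hbli.comp _ en.injective
  have hqspan : Submodule.span k (Set.range fun i => qmap k A ι (e i)) = ⊤ := by
    rw [← hbspan, show (fun i => qmap k A ι (e i)) = (Subtype.val : b → Q) ∘ en from funext hqe,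
      Set.range_comp, en.surjective.range_eq, Set.image_univ, Subtype.range_coe]
  let M : Submodule ℬ 𝒫 := Submodule.span ℬ (Set.range e)
  have hkM : ∀ (a : k) (i : Fin N), a • e i ∈ M := fun a i => by
    rw [← algebraMap_smul ℬ a (e i)]
    exact Submodule.smul_mem _ _ (Submodule.subset_span ⟨i, rfl⟩)
  have hspanM : ∀ d, ∀ h : 𝒫, h.IsHomogeneous d → h ∈ M := by
    intro d
    induction d using Nat.strong_induction_on with
    | _ d ih =>
      intro h hh
      obtain ⟨a, ha⟩ := (Submodule.mem_span_range_iff_exists_fun k).1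
        (hqspan ▸ Submodule.mem_top : qmap k A ι h ∈ Submodule.span k (Set.range fun i => qmap k A ι (e i)))
      have hJ : h - ∑ i, a i • e i ∈ hilb k A ι := by
        rw [← Ideal.Quotient.eq]
        show qmap k A ι h = qmap k A ι _
        rw [map_sum, ← ha]
        simp only [map_smul]
      obtain ⟨m, p, f, hpf⟩ := Submodule.mem_span_set'.1 hJ
      have h1 := congrArg (homogeneousComponent d) hpf
      rw [map_sub, map_sum, homogeneousComponent_eq_self hh, eq_sub_iff_add_eq] at h1
      rw [← h1, map_sum]
      refine add_mem (Submodule.sum_mem _ fun j _ => ?_) (Submodule.sum_mem _ fun i _ => ?_)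
      · obtain ⟨hinv, df, hdf, hfd⟩ := (f j).2
        rw [smul_eq_mul, comp_mul_homog hfd]
        split
        · have h2 := ih (d - df) (by omega) _ (homogeneousComponent_isHomogeneous (d - df) (p j))
          rw [mul_comm]
          exact M.smul_mem (⟨_, hinv⟩ : ℬ) h2
        · exact zero_mem _
      · rw [map_smul, homogeneousComponent_of_mem (hde i)]
        split
        · exact hkM _ _
        · rw [smul_zero]; exact zero_mem _
  have hli : LinearIndependent ℬ e := by
    rw [Fintype.linearIndependent_iff]
    intro g hg i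
    refine Subtype.ext ?_
    show (g i : 𝒫) = 0
    rw [← sum_homogeneousComponent (g i : 𝒫)]
    refine Finset.sum_eq_zero fun j _ => ?_
    let D := j + de i
    let σ := {l : Fin N // de l ≤ D}
    have hrel : ∑ l : σ, homogeneousComponent (D - de l) (g l : 𝒫) * e l = 0 := by
      have h1 := congrArg (homogeneousComponent D) hg
      rw [map_sum, map_zero] at h1
      rw [← h1, ← Finset.sum_subtype (Finset.univ.filter fun l => de l ≤ D) (by simp)
        (fun l => homogeneousComponent (D - de l) (g l : 𝒫) * e l), Finset.sum_filter]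
      refine Finset.sum_congr rfl fun l _ => ?_
      show _ = homogeneousComponent D ((g l : 𝒫) * e l)
      rw [comp_mul_homog (hde l)]
    have := indep_homog hlin hG hsub hgen D (Fintype.card σ) (σ := σ) rfl
      (fun l => homogeneousComponent (D - de l) (g l : 𝒫)) (fun l => e l) (fun l => D - de l) (fun l => de l)
      (fun l => comp_mem_invariants hlin _ (g l).2) (fun l => homogeneousComponent_isHomogeneous _ _)
      (fun l => hde l) (fun l => Nat.sub_add_cancel l.2) (hqli.comp _ Subtype.val_injective) hrel
      ⟨i, Nat.le_add_left _ _⟩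
    rwa [show D - de i = j from Nat.add_sub_cancel _ _] at this
  refine Module.Free.of_basis (Module.Basis.mk hli fun f _ => ?_)
  rw [← sum_homogeneousComponent f]
  exact Submodule.sum_mem _ fun i _ => hspanM i _ (homogeneousComponent_isHomogeneous i f)

end Groth.Agent.PsRefl
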