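import Groth.Agent.Comod.DualModule
import Groth.Prelude.Def_W4c6stackyreslrsPsRefl
import Groth.Prelude.Def_GLin
import Mathlib.RingTheory.HopfAlgebra.Quotient

/-!
The stabiliser of a vector is a Hopf ideal.
-/
set_option autoImplicit false
set_option linter.unusedSectionVars false
universe u v w
open TensorProduct Coalgebra
noncomputable section

namespace Groth.Agent.PsRefl

variable {k : Type u} [Field k] {A : Type v} [CommRing A] [HopfAlgebra k A]
variable {R : Type w} [CommRing R] [Algebra k R] [HopfRep.Comod k A R]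

local notation "ρ" => HopfRep.Comod.coact (k := k) (A := A) (V := R)

/-- A coefficient of the coaction. -/
def coef (φ : R →ₗ[k] k) : R →ₗ[k] A := Comod.cL φ ∘ₗ ρ

variable (k A) in
/-- The ideal of the stabiliser of a vector. -/
def fixIdeal (f : R) : Ideal A :=
  Ideal.span (Set.range fun φ : R →ₗ[k] k => coef φ f - algebraMap k A (φ f))

theorem cL_lTensor {B : Type*} [AddCommGroup B] [Module k B] (g : A →ₗ[k] B) (φ : R →ₗ[k] k) (t : R ⊗[k] A) :
    Comod.cL φ (g.lTensor R t) = g (Comod.cL φ t) := by
  induction t using TensorProduct.induction_on with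
  | zero => simp
  | tmul a b => simp
  | add a b ha hb => simp only [map_add, ha, hb]

theorem mem_quotInvariants_iff_coef (I : Ideal A) (f : R) :
    f ∈ GLin.quotInvariants k A R I ↔ fixIdeal k A f ≤ I := by
  rw [GLin.mem_quotInvariants_iff, fixIdeal, Ideal.span_le]
  constructor
  · rintro h _ ⟨φ, rfl⟩
    refine (Ideal.Quotient.eq (I := I)).1 ?_
    have e := congrArg (Comod.cL φ) h
    rw [cL_lTensor, Comod.cL_tmul, ← Algebra.algebraMap_eq_smul_one] at e
    exact e
  · intro h
    refine Comod.tensor_eq_of_cL fun φ => ?_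
    rw [cL_lTensor, Comod.cL_tmul, ← Algebra.algebraMap_eq_smul_one]
    exact (Ideal.Quotient.eq (I := I)).2 (h ⟨φ, rfl⟩)

theorem counit_coef (φ : R →ₗ[k] k) (f : R) : counit (R := k) (coef (A := A) φ f) = φ f := by
  have h : ∀ t : R ⊗[k] A, counit (R := k) (Comod.cL φ t) = φ (TensorProduct.rid k R (counit.lTensor R t)) :=
    fun t => by
      induction t using TensorProduct.induction_on with
      | zero => simp
      | tmul a b => simp [mul_comm]
      | add a b ha hb => simp only [map_add, ha, hb]
  show counit (R := k) (Comod.cL φ (ρ f)) = _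
  rw [h, show counit.lTensor R (ρ f) = f ⊗ₜ (1 : k) from LinearMap.congr_fun HopfRep.Comod.counit_comp f,
    TensorProduct.rid_tmul, one_smul]

/-- The coassociativity seen on a coefficient. -/
theorem comul_coef (φ : R →ₗ[k] k) (f : R) :
    comul (R := k) (coef (A := A) φ f) = (coef φ).rTensor A (ρ f) := by
  have h1 : ∀ t : R ⊗[k] A, comul (R := k) (Comod.cL φ t) =
      TensorProduct.lid k (A ⊗[k] A) (φ.rTensor (A ⊗[k] A) (comul.lTensor R t)) := fun t => by
    induction t using TensorProduct.induction_on with
    | zero => simp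
    | tmul a b => simp
    | add a b ha hb => simp only [map_add, ha, hb]
  have h2 : ∀ t : R ⊗[k] A, TensorProduct.lid k (A ⊗[k] A) (φ.rTensor (A ⊗[k] A)
      (TensorProduct.assoc k R A A ((ρ).rTensor A t))) = (coef φ).rTensor A t := fun t => by
    induction t using TensorProduct.induction_on with
    | zero => simp
    | add a b ha hb => simp only [map_add, ha, hb]
    | tmul a b =>
      simp only [LinearMap.rTensor_tmul, coef, LinearMap.comp_apply]
      generalize ρ a = s
      induction s using TensorProduct.induction_on with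
      | zero => simp
      | tmul p q => simp [TensorProduct.smul_tmul']
      | add p q hp hq => simp only [TensorProduct.add_tmul, map_add, hp, hq]
  show comul (R := k) (Comod.cL φ (ρ f)) = _
  rw [h1, ← show TensorProduct.assoc k R A A ((ρ).rTensor A (ρ f)) = comul.lTensor R (ρ f) from
    LinearMap.congr_fun HopfRep.Comod.coassoc f, h2]

theorem mk_coef (φ : R →ₗ[k] k) (f : R) :
    Ideal.Quotient.mk (fixIdeal k A f) (coef φ f) = algebraMap k _ (φ f) :=
  (Ideal.Quotient.eq (I := fixIdeal k A f)).2 (Ideal.subset_span ⟨φ, rfl⟩)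

instance isHopfIdeal_fixIdeal (f : R) : (fixIdeal k A f).IsHopfIdeal k := by
  set J := fixIdeal k A f
  have hfix : (Ideal.Quotient.mkₐ k J).toLinearMap.lTensor R (ρ f) = f ⊗ₜ[k] (1 : A ⧸ J) :=
    (mem_quotInvariants_iff_coef J f).2 le_rfl
  refine { counit_eq_zero := ?_, map_mkQ_comul_eq_zero := ?_, antipode_mem := ?_ }
  · intro a ha
    change a ∈ J at ha
    suffices h : J ≤ RingHom.ker (Bialgebra.counitAlgHom k A) by exact (h ha : Bialgebra.counitAlgHom k A a = 0)
    refine Ideal.span_le.2 ?_
    rintro _ ⟨φ, rfl⟩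
    show Bialgebra.counitAlgHom k A _ = 0
    rw [map_sub, AlgHom.commutes, Bialgebra.counitAlgHom_apply, counit_coef]
    exact sub_self _
  · intro a ha
    change a ∈ J at ha
    let Pc : A →ₐ[k] (A ⧸ J) ⊗[k] (A ⧸ J) :=
      (Algebra.TensorProduct.map (Ideal.Quotient.mkₐ k J) (Ideal.Quotient.mkₐ k J)).comp (Bialgebra.comulAlgHom k A)
    have hker : J ≤ RingHom.ker Pc := by
      refine Ideal.span_le.2 ?_
      rintro _ ⟨φ, rfl⟩
      show Pc (coef φ f - algebraMap k A (φ f)) = 0
      rw [map_sub, AlgHom.commutes, sub_eq_zero]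
      show Algebra.TensorProduct.map _ _ (comul (R := k) (coef φ f)) = _
      rw [comul_coef]
      have h : ∀ t : R ⊗[k] A, Algebra.TensorProduct.map (Ideal.Quotient.mkₐ k J) (Ideal.Quotient.mkₐ k J)
          ((coef φ).rTensor A t) = ((Ideal.Quotient.mkₐ k J).toLinearMap ∘ₗ coef φ).rTensor (A ⧸ J)
            ((Ideal.Quotient.mkₐ k J).toLinearMap.lTensor R t) := fun t => by
        induction t using TensorProduct.induction_on with
        | zero => simp
        | tmul a b => simp
        | add a b ha hb => simp only [map_add, ha, hb]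
      rw [h, hfix, LinearMap.rTensor_tmul, LinearMap.comp_apply, AlgHom.toLinearMap_apply,
        Ideal.Quotient.mkₐ_eq_mk, mk_coef, Algebra.algebraMap_eq_smul_one, Algebra.algebraMap_eq_smul_one,
        Algebra.TensorProduct.one_def, TensorProduct.smul_tmul']
    have h0 : Pc a = 0 := hker ha
    let e := (Ideal.Quotient.mkₐ k J).toLinearMap
    have hmk : ∀ t : A ⊗[k] A, TensorProduct.map e e t = 0 →
        TensorProduct.map (J.restrictScalars k).mkQ (J.restrictScalars k).mkQ t = 0 := fun t ht => ht
    exact hmk _ h0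
  · intro a ha
    change a ∈ J at ha
    let P : A →ₐ[k] A ⧸ J := (Ideal.Quotient.mkₐ k J).comp (HopfAlgebra.antipodeAlgHom k A)
    suffices J ≤ RingHom.ker P from Ideal.Quotient.eq_zero_iff_mem.1 (this ha)
    refine Ideal.span_le.2 ?_
    rintro _ ⟨φ, rfl⟩
    show P (coef φ f - algebraMap k A (φ f)) = 0
    rw [map_sub, AlgHom.commutes, sub_eq_zero]
    have h1 := HopfAlgebra.mul_antipode_rTensor_comul_apply (R := k) (coef (A := A) φ f)
    rw [comul_coef, counit_coef] at h1
    have h : ∀ t : R ⊗[k] A, Ideal.Quotient.mk J (LinearMap.mul' k A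
        ((HopfAlgebra.antipode k).rTensor A ((coef φ).rTensor A t))) =
        LinearMap.mul' k (A ⧸ J) ((P.toLinearMap ∘ₗ coef φ).rTensor (A ⧸ J)
          ((Ideal.Quotient.mkₐ k J).toLinearMap.lTensor R t)) := fun t => by
      induction t using TensorProduct.induction_on with
      | zero => simp
      | tmul a b => simp [P]
      | add a b ha hb => simp only [map_add, ha, hb]
    have h2 := congrArg (Ideal.Quotient.mk J) h1
    rw [h, hfix] at h2
    simpa [P] using h2

end Groth.Agent.PsRefl
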