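import Groth.Agent.Comod.Reynolds
import Groth.Agent.Comod.Change
import Groth.Agent.PsRefl.StabIdeal
import Mathlib.RingTheory.MvPolynomial.Homogeneous

/-!
A pseudo-reflection moves polynomials along a line.
-/
set_option autoImplicit false
set_option linter.unusedSectionVars false
universe u
open TensorProduct Coalgebra MvPolynomial
noncomputable section

namespace Groth.Agent.PsRefl

variable {k : Type u} [Field k] {D : Type u} [CommRing D] [HopfAlgebra k D]
variable {V : Type u} [AddCommGroup V] [Module k V] [HopfRep.Comod k D V]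

/-- The Reynolds operator is a map of comodules to the trivial one. -/
theorem rTensor_reynolds (r : Comod.Integral k D) (v : V) :
    (Comod.reynolds V r).rTensor D (HopfRep.Comod.coact (k := k) (A := D) v) =
      Comod.reynolds V r v ⊗ₜ[k] (1 : D) := by
  let ρ : V →ₗ[k] V ⊗[k] D := HopfRep.Comod.coact
  let N : V ⊗[k] (D ⊗[k] D) →ₗ[k] V ⊗[k] D :=
    (Comod.cL (C := D) r.toFun).lTensor V
  have h1 : ∀ t : V ⊗[k] D, (Comod.reynolds V r).rTensor D t = N (TensorProduct.assoc k V D D (ρ.rTensor D t)) :=
    fun t => by
      induction t using TensorProduct.induction_on with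
      | zero => simp
      | add a b ha hb => simp only [map_add, ha, hb]
      | tmul a b =>
        rw [LinearMap.rTensor_tmul, LinearMap.rTensor_tmul, Comod.reynolds_apply]
        show _ = N (TensorProduct.assoc k V D D (ρ a ⊗ₜ[k] b))
        show (Comod.cR r.toFun (ρ a)) ⊗ₜ[k] b = _
        generalize ρ a = s
        induction s using TensorProduct.induction_on with
        | zero => simp
        | tmul p q => simp [N, TensorProduct.smul_tmul]
        | add p q hp hq => simp only [map_add, TensorProduct.add_tmul, hp, hq]
  have h2 : ∀ t : V ⊗[k] D, N (comul.lTensor V t) = Comod.cR r.toFun t ⊗ₜ[k] (1 : D) := fun t => by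
    induction t using TensorProduct.induction_on with
    | zero => simp
    | add a b ha hb => simp only [map_add, ha, hb, TensorProduct.add_tmul]
    | tmul a b =>
      simp only [N, LinearMap.lTensor_tmul]
      rw [show Comod.cL r.toFun (comul (R := k) b) = algebraMap k D (r.toFun b) from r.left b, Comod.cR_tmul,
        Algebra.algebraMap_eq_smul_one, TensorProduct.smul_tmul]
  rw [h1, show TensorProduct.assoc k V D D (ρ.rTensor D (ρ v)) = comul.lTensor V (ρ v) from
    LinearMap.congr_fun HopfRep.Comod.coassoc v, h2]
  rfl

/-- A stable finite dimensional space with fixed vectors of codimension one is those plus an eigenline. -/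
theorem exists_eigen (r : Comod.Integral k D) (W F : Submodule k V) [Module.Finite k W]
    (hW : ∀ w ∈ W, HopfRep.Comod.coact (k := k) (A := D) w ∈ LinearMap.range (W.subtype.rTensor D))
    (hF : F = W ⊓ HopfRep.fixedPts k D V) (hd : Module.finrank k F + 1 = Module.finrank k W) :
    ∃ L ∈ W, L ≠ 0 ∧ (∃ c : D, HopfRep.Comod.coact (k := k) (A := D) L = L ⊗ₜ[k] c) ∧
      ∀ w ∈ W, ∃ (f : V) (a : k), f ∈ HopfRep.fixedPts k D V ∧ w = f + a • L := by
  classical
  have hR : ∀ w ∈ W, Comod.reynolds V r w ∈ W := fun w hw => by
    obtain ⟨t, ht⟩ := hW w hw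
    rw [Comod.reynolds_apply, ← ht]
    clear ht
    induction t using TensorProduct.induction_on with
    | zero => simp
    | tmul a b => simpa using W.smul_mem _ a.2
    | add a b ha hb => rw [map_add, map_add]; exact add_mem ha hb
  let P : W →ₗ[k] W := (Comod.reynolds V r).restrict hR
  have hFW : F ≤ W := hF ▸ inf_le_left
  have hrange : (LinearMap.range P).map W.subtype = F := by
    refine le_antisymm ?_ fun f hf => ?_
    · rintro _ ⟨_, ⟨w, rfl⟩, rfl⟩
      rw [hF]
      exact ⟨(P w).2, Comod.reynolds_mem r _⟩
    · exact ⟨P ⟨f, hFW hf⟩, ⟨_, rfl⟩, Comod.reynolds_of_mem r (hF.le hf).2⟩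
  have hker : Module.finrank k (LinearMap.ker P) = 1 := by
    have h1 := LinearMap.finrank_range_add_finrank_ker P
    have h2 : Module.finrank k (LinearMap.range P) = Module.finrank k F := by
      rw [← hrange]
      exact (Submodule.finrank_map_subtype_eq W _).symm
    omega
  obtain ⟨L, hL0, hLspan⟩ := finrank_eq_one_iff'.1 hker
  have hL00 : ((L : W) : V) ≠ 0 := fun h => hL0 (Subtype.ext (Subtype.ext h))
  refine ⟨(L : W), (L : W).2, hL00, ?_, fun w hw => ?_⟩
  · obtain ⟨t, ht⟩ := hW _ (L : W).2
    have hinj : Function.Injective (W.subtype.rTensor D) :=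
      Module.Flat.rTensor_preserves_injective_linearMap _ W.injective_subtype
    have h0 : P.rTensor D t = 0 := hinj (by
      rw [map_zero]
      have h := rTensor_reynolds r ((L : W) : V)
      rw [← ht, show Comod.reynolds V r ((L : W) : V) = 0 from congrArg Subtype.val L.2,
        TensorProduct.zero_tmul] at h
      refine Eq.trans ?_ h
      clear ht h
      induction t using TensorProduct.induction_on with
      | zero => simp
      | tmul a b => simp [P]
      | add a b ha hb => simp only [map_add, ha, hb])
    obtain ⟨s, rfl⟩ := (Module.Flat.rTensor_exact D (LinearMap.exact_subtype_ker_map P) t).1 h0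
    rw [← ht]
    clear ht h0
    induction s using TensorProduct.induction_on with
    | zero => exact ⟨0, by simp⟩
    | tmul a b =>
      obtain ⟨e, rfl⟩ := hLspan a
      exact ⟨e • b, by simp [TensorProduct.smul_tmul]⟩
    | add a b ha hb =>
      obtain ⟨c, hc⟩ := ha
      obtain ⟨c', hc'⟩ := hb
      exact ⟨c + c', by simp [TensorProduct.tmul_add, hc, hc']⟩
  · have hmem : (⟨w, hw⟩ : W) - P ⟨w, hw⟩ ∈ LinearMap.ker P := by
      rw [LinearMap.mem_ker, map_sub, sub_eq_zero]
      exact Subtype.ext (Comod.reynolds_of_mem r (Comod.reynolds_mem r w)).symm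
    obtain ⟨e, he⟩ := hLspan ⟨_, hmem⟩
    refine ⟨Comod.reynolds V r w, e, Comod.reynolds_mem r w, ?_⟩
    have := congrArg (fun q : LinearMap.ker P => ((q : W) : V)) he
    simp only [Submodule.coe_smul, Submodule.coe_sub] at this
    rw [this]
    show w = Comod.reynolds V r w + (w - Comod.reynolds V r w)
    abel

end Groth.Agent.PsRefl
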